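import Mathlib.RingTheory.Smooth.Local
import Mathlib.RingTheory.Smooth.Basic
import Mathlib.RingTheory.Smooth.Locus
import Mathlib.RingTheory.Etale.Kaehler
import Mathlib.RingTheory.Kaehler.Basic
import Mathlib.RingTheory.LocalRing.ResidueField.Ideal
import Mathlib.LinearAlgebra.Basis.VectorSpace
import Mathlib.RingTheory.LocalRing.Module

/-!
# Smoothness of a closed subscheme along a section
-/

set_option autoImplicit false
set_option backward.isDefEq.respectTransparency false
universe u v

open TensorProduct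

namespace Groth.Agent.SmoothQuot22

variable {R A : Type u} [CommRing R] [CommRing A] [Algebra R A] (ε : A →ₐ[R] R) (J : Ideal A)

/-- A derivation extending a given linear map on `J` killed by the augmentation. -/
theorem exists_derivation (hJI : J ≤ RingHom.ker ε) (h2 : J ⊓ RingHom.ker ε ^ 2 = RingHom.ker ε * J)
    (h3 : Module.Projective R (↥(RingHom.ker ε) ⧸
      Submodule.comap (RingHom.ker ε).subtype (J ⊔ RingHom.ker ε ^ 2)))
    {N : Type v} [AddCommGroup N] [Module A N] [Module R N] [IsScalarTower R A N]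
    (hN : ∀ a ∈ RingHom.ker ε, ∀ n : N, a • n = 0) (g : J →ₗ[A] N) :
    ∃ D : Derivation R A N, ∀ j : J, D j = g j := by
  classical
  let I := RingHom.ker ε
  have hIJ : ∀ j : J, (j : A) ∈ I ^ 2 → g j = 0 := by
    intro j hj
    have h4 : (j : A) ∈ I * J := h2 ▸ ⟨j.2, hj⟩
    have h5 : j ∈ I • (⊤ : Submodule A J) := by
      have : Submodule.map J.subtype (I • (⊤ : Submodule A J)) = I * J := by
        rw [Submodule.map_smul'', Submodule.map_subtype_top, smul_eq_mul]
      rw [← this] at h4
      obtain ⟨j', hj', e⟩ := h4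
      rwa [← Subtype.ext e]
    refine Submodule.smul_induction_on h5 (fun a ha x _ => by rw [map_smul, hN a ha]) fun x y hx hy => by
      rw [map_add, hx, hy, add_zero]
  -- the extension to `J + I ^ 2`
  let W : Submodule A I := Submodule.comap I.subtype (J ⊔ I ^ 2)
  have hW : ∀ x : W, ∃ j : J, ((x : I) : A) - j ∈ I ^ 2 := fun x => by
    obtain ⟨j, hj, w, hw, e⟩ := Submodule.mem_sup.1 x.2
    exact ⟨⟨j, hj⟩, by rw [show ((x : I) : A) = j + w from e.symm, add_sub_cancel_left]; exact hw⟩
  choose c hc using hW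
  have huniq : ∀ (x : W) (j : J), ((x : I) : A) - j ∈ I ^ 2 → g (c x) = g j := fun x j hj => by
    rw [← sub_eq_zero, ← map_sub]
    apply hIJ
    have := (I ^ 2).sub_mem hj (hc x)
    simpa using this
  let g₁ : W →ₗ[A] N :=
    { toFun := fun x => g (c x)
      map_add' := fun x y => by
        rw [huniq (x + y) (c x + c y), map_add]
        have := (I ^ 2).add_mem (hc x) (hc y)
        convert this using 1
        push_cast
        ring
      map_smul' := fun a x => by
        rw [huniq (a • x) (a • c x), map_smul, RingHom.id_apply]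
        have := (I ^ 2).mul_mem_left a (hc x)
        convert this using 1
        push_cast
        simp [mul_sub] }
  let π : I →ₗ[R] I ⧸ W := W.mkQ.restrictScalars R
  obtain ⟨σ, hσ⟩ := Module.projective_lifting_property π LinearMap.id W.mkQ_surjective
  have hρmem : ∀ x : I, x - σ (π x) ∈ W := fun x => by
    rw [← Submodule.Quotient.eq]
    exact (LinearMap.congr_fun hσ (π x)).symm
  let ρ : I →ₗ[R] N :=
    { toFun := fun x => g₁ ⟨x - σ (π x), hρmem x⟩
      map_add' := fun x y => by
        rw [← map_add]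
        congr 1
        ext1
        simp only [map_add, Submodule.coe_add]
        abel
      map_smul' := fun r x => by
        rw [RingHom.id_apply, ← LinearMap.map_smul_of_tower]
        congr 1
        ext1
        simp [smul_sub] }
  have hρJ : ∀ (j : J) (h : (j : A) ∈ I), ρ ⟨j, h⟩ = g j := fun j h => by
    have h0 : π ⟨j, h⟩ = 0 := (Submodule.Quotient.mk_eq_zero W).2 (Submodule.mem_sup_left j.2)
    show g (c _) = g j
    refine huniq _ j ?_
    simp only [h0, map_zero, sub_zero, sub_self]
    exact zero_mem _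
  have hρsq : ∀ x : I, (x : A) ∈ I ^ 2 → ρ x = 0 := fun x hx => by
    have h0 : π x = 0 := (Submodule.Quotient.mk_eq_zero W).2 (Submodule.mem_sup_right hx)
    show g (c _) = 0
    refine (huniq _ 0 ?_).trans (map_zero g)
    simpa only [h0, map_zero, sub_zero, Submodule.coe_zero] using hx
  have hmem : ∀ a : A, a - algebraMap R A (ε a) ∈ I := fun a => by
    show ε (a - algebraMap R A (ε a)) = 0
    rw [map_sub, AlgHom.commutes, Algebra.algebraMap_self, RingHom.id_apply, sub_self]
  have hsmul : ∀ (a : A) (n : N), a • n = ε a • n := fun a n => by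
    rw [← sub_eq_zero, ← algebraMap_smul A (ε a) n, ← sub_smul]
    exact hN _ (hmem a) n
  let D₀ : A →ₗ[R] N :=
    { toFun := fun a => ρ ⟨a - algebraMap R A (ε a), hmem a⟩
      map_add' := fun a b => by
        rw [← map_add]
        congr 1
        ext1
        simp only [map_add, Submodule.coe_add]
        ring
      map_smul' := fun r a => by
        rw [RingHom.id_apply, ← map_smul]
        congr 1
        ext1
        simp [Algebra.smul_def, mul_sub] }
  refine ⟨Derivation.mk' D₀ fun a b => ?_, fun j => ?_⟩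
  · let x : I := ⟨a - algebraMap R A (ε a), hmem a⟩
    let y : I := ⟨b - algebraMap R A (ε b), hmem b⟩
    let z : I := ⟨(x : A) * y, I.mul_mem_left _ y.2⟩
    have he : (⟨a * b - algebraMap R A (ε (a * b)), hmem (a * b)⟩ : I) = z + ε a • y + ε b • x := by
      ext1
      simp only [x, y, z, map_mul, Submodule.coe_add, Submodule.coe_smul_of_tower, Algebra.smul_def]
      ring
    show ρ _ = a • ρ y + b • ρ x
    rw [he, map_add, map_add, map_smul, map_smul, hρsq z (by rw [sq]; exact Ideal.mul_mem_mul x.2 y.2),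
      zero_add, ← hsmul, ← hsmul]
  · show ρ _ = g j
    have : (⟨(j : A) - algebraMap R A (ε j), hmem j⟩ : I) = ⟨j, hJI j.2⟩ := by
      ext1
      simp [RingHom.mem_ker.1 (hJI j.2)]
    rw [this]
    exact hρJ j _

theorem isSmoothAt [Algebra.Smooth R A] (hJI : J ≤ RingHom.ker ε) (h1 : J.FG)
    (h2 : J ⊓ RingHom.ker ε ^ 2 = RingHom.ker ε * J)
    (h3 : Module.Projective R (↥(RingHom.ker ε) ⧸
      Submodule.comap (RingHom.ker ε).subtype (J ⊔ RingHom.ker ε ^ 2)))
    (P : Ideal (A ⧸ J)) [P.IsPrime] (hP : (RingHom.ker ε).map (Ideal.Quotient.mk J) ≤ P) :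
    Algebra.IsSmoothAt R P := by
  let Q : Ideal A := P.comap (Ideal.Quotient.mk J)
  haveI : Q.IsPrime := Ideal.IsPrime.comap _
  have hIQ : RingHom.ker ε ≤ Q := Ideal.map_le_iff_le_comap.1 hP
  let AQ := Localization.AtPrime Q
  let S := Localization.AtPrime P
  let ψ₀ : AQ →+* S := Localization.localRingHom Q P (Ideal.Quotient.mk J) rfl
  let ψ : AQ →ₐ[R] S :=
    { ψ₀ with
      commutes' := fun c => by
        change ψ₀ (algebraMap R AQ c) = algebraMap R S c
        rw [IsScalarTower.algebraMap_apply R A AQ, Localization.localRingHom_to_map,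
          IsScalarTower.algebraMap_apply R (A ⧸ J) S]
        rfl }
  letI : Algebra AQ S := ψ.toRingHom.toAlgebra
  haveI : IsScalarTower R AQ S := IsScalarTower.of_algebraMap_eq fun c => (ψ.commutes c).symm
  have hψ : Function.Surjective (algebraMap AQ S) := by
    intro y
    obtain ⟨b, s, rfl⟩ := IsLocalization.exists_mk'_eq P.primeCompl y
    obtain ⟨b, rfl⟩ := Ideal.Quotient.mk_surjective b
    obtain ⟨t, ht⟩ := Ideal.Quotient.mk_surjective (s : A ⧸ J)
    refine ⟨IsLocalization.mk' AQ b (⟨t, fun h => s.2 (by rw [← ht]; exact h)⟩ : Q.primeCompl), ?_⟩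
    change ψ₀ _ = _
    rw [Localization.localRingHom_mk']
    congr 1
    exact Subtype.ext ht
  have hker : RingHom.ker (algebraMap AQ S) = J.map (algebraMap A AQ) := by
    refine le_antisymm (fun z hz => ?_) (Ideal.map_le_iff_le_comap.2 fun j hj => ?_)
    · obtain ⟨b, s, rfl⟩ := IsLocalization.exists_mk'_eq Q.primeCompl z
      have hz' : ψ₀ (IsLocalization.mk' AQ b s) = 0 := hz
      rw [Localization.localRingHom_mk', IsLocalization.mk'_eq_zero_iff] at hz'
      obtain ⟨⟨t, ht⟩, htb⟩ := hz'
      obtain ⟨t, rfl⟩ := Ideal.Quotient.mk_surjective t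
      rw [← map_mul, Ideal.Quotient.eq_zero_iff_mem] at htb
      rw [IsLocalization.mk'_mem_map_algebraMap_iff Q.primeCompl]
      exact ⟨t, ht, htb⟩
    · change ψ₀ (algebraMap A AQ j) = 0
      rw [Localization.localRingHom_to_map, Ideal.Quotient.eq_zero_iff_mem.2 hj, map_zero]
  haveI : Algebra.FormallyEtale A AQ := Algebra.FormallyEtale.of_isLocalization Q.primeCompl
  haveI : Algebra.FormallySmooth R AQ := .comp R A AQ
  haveI : Module.Finite AQ Ω[AQ⁄R] :=
    Module.Finite.equiv (KaehlerDifferential.tensorKaehlerEquivOfFormallyEtale R A AQ)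
  haveI : Module.Projective AQ Ω[AQ⁄R] :=
    Module.Projective.of_equiv (KaehlerDifferential.tensorKaehlerEquivOfFormallyEtale R A AQ)
  haveI : Module.Free AQ Ω[AQ⁄R] := Module.free_of_flat_of_isLocalRing
  let K := IsLocalRing.ResidueField S
  haveI : IsScalarTower A AQ S := IsScalarTower.of_algebraMap_eq fun a => by
    rw [IsScalarTower.algebraMap_apply A (A ⧸ J) S]
    exact (Localization.localRingHom_to_map Q P (Ideal.Quotient.mk J) rfl a).symm
  haveI : IsScalarTower A AQ K := IsScalarTower.of_algebraMap_eq fun a => by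
    rw [IsScalarTower.algebraMap_apply A S K, IsScalarTower.algebraMap_apply A AQ S,
      ← IsScalarTower.algebraMap_apply AQ S K]
  haveI : IsScalarTower R A K := IsScalarTower.of_algebraMap_eq fun a => by
    rw [IsScalarTower.algebraMap_apply R S K, IsScalarTower.algebraMap_apply A S K,
      ← IsScalarTower.algebraMap_apply R A S]
  rw [Algebra.IsSmoothAt, Algebra.FormallySmooth.iff_injective_cotangentComplexBaseChange_residueField AQ hψ
    (hker ▸ h1.map _)]
  let N := K ⊗[AQ] RingHom.ker (algebraMap AQ S)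
  let g : J →ₗ[A] N :=
    { toFun := fun j => (1 : K) ⊗ₜ[AQ] ⟨algebraMap A AQ j, hker ▸ Ideal.mem_map_of_mem _ j.2⟩
      map_add' := fun x y => by
        rw [← TensorProduct.tmul_add]
        congr 1
        ext1
        simp
      map_smul' := fun a x => by
        rw [RingHom.id_apply, ← algebraMap_smul AQ a ((1 : K) ⊗ₜ[AQ] _), ← TensorProduct.tmul_smul]
        congr 1
        ext1
        simp [Algebra.smul_def] }
  have hN : ∀ a ∈ RingHom.ker ε, ∀ n : N, a • n = 0 := by
    intro a ha n
    rw [← algebraMap_smul AQ a n, ← algebraMap_smul K (algebraMap A AQ a) n]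
    have : algebraMap AQ K (algebraMap A AQ a) = 0 := by
      rw [IsScalarTower.algebraMap_apply AQ S K]
      change IsLocalRing.residue S (ψ₀ (algebraMap A AQ a)) = 0
      rw [Localization.localRingHom_to_map, IsLocalRing.residue_eq_zero_iff,
        IsLocalization.AtPrime.to_map_mem_maximal_iff S P]
      exact hIQ ha
    rw [this, zero_smul]
  obtain ⟨D, hD⟩ := exists_derivation ε J hJI h2 h3 hN g
  let L : Ω[AQ⁄R] →ₗ[AQ] N := D.liftKaehlerDifferential.liftBaseChange AQ ∘ₗ
    (KaehlerDifferential.tensorKaehlerEquivOfFormallyEtale R A AQ).symm.toLinearMap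
  have hL : ∀ a : A, L (KaehlerDifferential.D R AQ (algebraMap A AQ a)) = D a := by
    intro a
    have : KaehlerDifferential.tensorKaehlerEquivOfFormallyEtale R A AQ
        (1 ⊗ₜ KaehlerDifferential.D R A a) = KaehlerDifferential.D R AQ (algebraMap A AQ a) := by
      simp
    simp only [L, LinearMap.comp_apply, LinearEquiv.coe_coe, ← this, LinearEquiv.symm_apply_apply]
    simp
  let LK : K ⊗[AQ] Ω[AQ⁄R] →ₗ[K] N := L.liftBaseChange K
  suffices h : ∀ z, LK (KaehlerDifferential.cotangentComplexBaseChange R S AQ K z) = z from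
    Function.LeftInverse.injective h
  intro z
  induction z using TensorProduct.induction_on with
  | zero => simp only [map_zero]
  | add a b ha hb => simp only [map_add, ha, hb]
  | tmul k x =>
    obtain ⟨x, hx⟩ := x
    have hx' : x ∈ Ideal.span (algebraMap A AQ '' J) := hker.le hx
    have key : ∀ y (hy : y ∈ Ideal.span (algebraMap A AQ '' J)),
        LK (KaehlerDifferential.cotangentComplexBaseChange R S AQ K
          ((1 : K) ⊗ₜ[AQ] (⟨y, hker.ge hy⟩ : RingHom.ker (algebraMap AQ S)))) =
          (1 : K) ⊗ₜ[AQ] (⟨y, hker.ge hy⟩ : RingHom.ker (algebraMap AQ S)) := by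
      intro y hy
      induction hy using Submodule.span_induction with
      | mem y hy =>
        obtain ⟨j, hj, rfl⟩ := hy
        simp only [KaehlerDifferential.cotangentComplexBaseChange_tmul, one_smul,
          KaehlerDifferential.kerToTensor_apply, LK, LinearMap.liftBaseChange_tmul, hL]
        exact hD ⟨j, hj⟩
      | zero =>
        have : ((1 : K) ⊗ₜ[AQ] (⟨0, hker.ge (Ideal.span (algebraMap A AQ '' J)).zero_mem⟩ :
            RingHom.ker (algebraMap AQ S))) = 0 := TensorProduct.tmul_zero _ _
        rw [this]; simp only [map_zero]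
      | add y y' hy hy' ih ih' =>
        have : ((1 : K) ⊗ₜ[AQ] (⟨y + y', hker.ge (add_mem hy hy')⟩ : RingHom.ker (algebraMap AQ S))) =
            (1 : K) ⊗ₜ[AQ] ⟨y, hker.ge hy⟩ + (1 : K) ⊗ₜ[AQ] ⟨y', hker.ge hy'⟩ :=
          by rw [← TensorProduct.tmul_add]; rfl
        rw [this]; simp only [map_add, ih, ih']
      | smul a y hy ih =>
        have : ((1 : K) ⊗ₜ[AQ] (⟨a • y, hker.ge (Submodule.smul_mem _ a hy)⟩ :
            RingHom.ker (algebraMap AQ S))) =
            algebraMap AQ K a • ((1 : K) ⊗ₜ[AQ] ⟨y, hker.ge hy⟩) := by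
          rw [algebraMap_smul]
          rw [← TensorProduct.tmul_smul]; rfl
        rw [this]; simp only [map_smul, ih]
    have hk : k ⊗ₜ[AQ] (⟨x, hx⟩ : RingHom.ker (algebraMap AQ S)) =
        k • ((1 : K) ⊗ₜ[AQ] (⟨x, hx⟩ : RingHom.ker (algebraMap AQ S))) := by
      rw [TensorProduct.smul_tmul', smul_eq_mul, mul_one]
    rw [hk]
    simp only [map_smul, key x hx']

end Groth.Agent.SmoothQuot22
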